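import Groth.Agent.IndCofLib.Core

/-!
# Ind-objects of cofinite type form an abelian, Artinian subcategory
-/

universe v

open CategoryTheory CategoryTheory.Limits

namespace Groth.Agent.IndCofLib

variable {C : Type v} [SmallCategory C] [Abelian C]

/-- The middle of a five term exact sequence of objects of `C` is an object of `C`. -/
lemma isObj_of_five {M₀ M₁ M₂ M₃ M₄ : Ind C} (f₀ : M₀ ⟶ M₁) (f₁ : M₁ ⟶ M₂) (f₂ : M₂ ⟶ M₃)
    (f₃ : M₃ ⟶ M₄) (w₀ : f₀ ≫ f₁ = 0) (w₁ : f₁ ≫ f₂ = 0) (w₂ : f₂ ≫ f₃ = 0)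
    (e₀ : (ShortComplex.mk f₀ f₁ w₀).Exact) (e₁ : (ShortComplex.mk f₁ f₂ w₁).Exact)
    (e₂ : (ShortComplex.mk f₂ f₃ w₂).Exact)
    (h₀ : IsObj M₀) (h₁ : IsObj M₁) (h₃ : IsObj M₃) (h₄ : IsObj M₄) : IsObj M₂ := by
  let a : cokernel f₀ ⟶ M₂ := cokernel.desc f₀ f₁ w₀
  let b : M₂ ⟶ kernel f₃ := kernel.lift f₃ f₂ w₂
  haveI : Mono a := (ShortComplex.exact_iff_mono_cokernel_desc _).1 e₀
  haveI : Epi b := (ShortComplex.exact_iff_epi_kernel_lift _).1 e₂
  have w : a ≫ b = 0 := by
    rw [← cancel_epi (cokernel.π f₀), ← cancel_mono (kernel.ι f₃)]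
    simp [a, b, w₁]
  refine isObj_of_shortExact (S := ShortComplex.mk a b w) ⟨?_⟩ (isObj_cokernel f₀ h₀ h₁)
    (isObj_kernel f₃ h₃ h₄)
  rw [ShortComplex.exact_iff_exact_up_to_refinements]
  intro T (y : T ⟶ M₂) (hy : y ≫ b = 0)
  have h0 : y ≫ f₂ = 0 := by
    rw [← kernel.lift_ι f₃ f₂ w₂, ← Category.assoc, hy, zero_comp]
  obtain ⟨T', π, hπ, x, hx⟩ := e₁.exact_up_to_refinements y h0
  exact ⟨T', π, hπ, x ≫ cokernel.π f₀, by
    change π ≫ y = (x ≫ cokernel.π f₀) ≫ a
    rw [Category.assoc, cokernel.π_desc]; exact hx⟩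

/-- A subobject of cofinite type and the ambient object of cofinite type: the kernel. -/
lemma cof_kernel {A B : Ind C} (hA : Cof A) (hB : Cof B) (f : A ⟶ B) : Cof (kernel f) := by
  intro n hn
  let i : K n (kernel f) ⟶ K n A :=
    kernel.map _ _ (kernel.ι f) (kernel.ι f) (by rw [Preadditive.comp_nsmul, Preadditive.nsmul_comp,
      Category.comp_id, Category.id_comp])
  let g : K n A ⟶ K n B :=
    kernel.map _ _ f f (by rw [Preadditive.comp_nsmul, Preadditive.nsmul_comp, Category.comp_id,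
      Category.id_comp])
  have hi : i ≫ ιK n A = ιK n (kernel f) ≫ kernel.ι f := kernel.lift_ι _ _ _
  have hg : g ≫ ιK n B = ιK n A ≫ f := kernel.lift_ι _ _ _
  haveI : Mono i := by
    have : Mono (i ≫ ιK n A) := by rw [hi]; exact mono_comp _ _
    exact mono_of_mono i (ιK n A)
  have w : i ≫ g = 0 := by
    rw [← cancel_mono (ιK n B), Category.assoc, hg, reassoc_of% hi, kernel.condition, comp_zero,
      zero_comp]
  refine isObj_of_exact_mono i g w ?_ (hA n hn) (hB n hn)
  rw [ShortComplex.exact_iff_exact_up_to_refinements]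
  intro T (x : T ⟶ K n A) (hx : x ≫ g = 0)
  have h0 : (x ≫ ιK n A) ≫ f = 0 := by
    rw [Category.assoc, ← hg, ← Category.assoc, hx, zero_comp]
  obtain ⟨y, hy⟩ := exists_liftK (n := n) (kernel.lift f _ h0) (by
    rw [← cancel_mono (kernel.ι f), Preadditive.nsmul_comp, kernel.lift_ι, zero_comp,
      ← Preadditive.comp_nsmul, nsmul_ιK, comp_zero])
  refine ⟨T, 𝟙 T, inferInstance, y, ?_⟩
  change 𝟙 T ≫ x = y ≫ i
  rw [← cancel_mono (ιK n A), Category.assoc y, hi, reassoc_of% hy, kernel.lift_ι,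
    Category.id_comp]

section Quotient

variable (hart : ∀ X : C, IsArtinianObject X) (htor : ∀ X : C, ∃ n : ℕ, 0 < n ∧ n • 𝟙 X = 0)
include hart htor

/-- Quotients of objects of cofinite type by objects of cofinite type. -/
theorem cof_of_shortExact {P A I : Ind C} (i : P ⟶ A) (e : A ⟶ I) [Mono i] [Epi e] (w : i ≫ e = 0)
    (hex : (ShortComplex.mk i e w).Exact) (hP : Cof P) (hA : Cof A) : Cof I := by
  intro n hn
  have hlift : ∀ {T : Ind C} (x : T ⟶ A), x ≫ e = 0 → ∃ x' : T ⟶ P, x' ≫ i = x := fun x hx => by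
    haveI : Mono (ShortComplex.mk i e w).f := inferInstanceAs (Mono i)
    exact ⟨hex.lift x hx, hex.lift_f x hx⟩
  let f₀ : K n P ⟶ K n A :=
    kernel.map _ _ i i (by rw [Preadditive.comp_nsmul, Preadditive.nsmul_comp, Category.comp_id,
      Category.id_comp])
  let f₁ : K n A ⟶ K n I :=
    kernel.map _ _ e e (by rw [Preadditive.comp_nsmul, Preadditive.nsmul_comp, Category.comp_id,
      Category.id_comp])
  let f₃ : cokernel (n • 𝟙 P) ⟶ cokernel (n • 𝟙 A) :=
    cokernel.map _ _ i i (by rw [Preadditive.comp_nsmul, Preadditive.nsmul_comp, Category.comp_id,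
      Category.id_comp])
  have h₀ : f₀ ≫ ιK n A = ιK n P ≫ i := kernel.lift_ι _ _ _
  have h₁ : f₁ ≫ ιK n I = ιK n A ≫ e := kernel.lift_ι _ _ _
  have h₃ : qK n P ≫ f₃ = i ≫ qK n A := cokernel.π_desc _ _ _
  let fst := pullback.fst e (ιK n I)
  let snd := pullback.snd e (ιK n I)
  have hpb : fst ≫ e = snd ≫ ιK n I := pullback.condition
  obtain ⟨k, hk⟩ := hlift (n • fst) (by
    rw [Preadditive.nsmul_comp, hpb, ← Preadditive.comp_nsmul, nsmul_ιK, comp_zero])
  have hκ : kernel.ι snd ≫ k ≫ qK n P = 0 := by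
    obtain ⟨x', hx'⟩ := hlift (kernel.ι snd ≫ fst) (by
      rw [Category.assoc, hpb, kernel.condition_assoc, zero_comp])
    have hk' : kernel.ι snd ≫ k = n • x' := by
      rw [← cancel_mono i, Category.assoc, hk, Preadditive.comp_nsmul, Preadditive.nsmul_comp, hx']
    rw [← Category.assoc, hk', Preadditive.nsmul_comp, ← Preadditive.comp_nsmul, nsmul_qK,
      comp_zero]
  let δ : K n I ⟶ cokernel (n • 𝟙 P) := Abelian.epiDesc snd (k ≫ qK n P) hκ
  have hsnd : snd ≫ δ = k ≫ qK n P := Abelian.comp_epiDesc _ _ _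
  have hδ : ∀ {T : Ind C} (x : T ⟶ K n I) (a : T ⟶ A) (k' : T ⟶ P),
      a ≫ e = x ≫ ιK n I → k' ≫ i = n • a → x ≫ δ = k' ≫ qK n P := by
    intro T x a k' ha hk'
    have hl : pullback.lift a x ha ≫ k = k' := by
      rw [← cancel_mono i, Category.assoc, hk, Preadditive.comp_nsmul, pullback.lift_fst, hk']
    rw [← hl, Category.assoc, ← hsnd, ← Category.assoc, pullback.lift_snd]
  have w₀ : f₀ ≫ f₁ = 0 := by
    rw [← cancel_mono (ιK n I), Category.assoc, h₁, reassoc_of% h₀, w, comp_zero, zero_comp]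
  have w₁ : f₁ ≫ δ = 0 := by
    rw [hδ f₁ (ιK n A) 0 h₁.symm (by rw [zero_comp, nsmul_ιK]), zero_comp]
  have w₂ : δ ≫ f₃ = 0 := by
    rw [← cancel_epi snd, reassoc_of% hsnd, h₃, reassoc_of% hk, Preadditive.nsmul_comp,
      ← Preadditive.comp_nsmul, nsmul_qK, comp_zero, comp_zero]
  refine isObj_of_five f₀ f₁ δ f₃ w₀ w₁ w₂ ?_ ?_ ?_ (hP n hn) (hA n hn)
    (isObj_quot hart htor hP n hn) (isObj_quot hart htor hA n hn)
  · rw [ShortComplex.exact_iff_exact_up_to_refinements]
    intro T (x : T ⟶ K n A) (hx : x ≫ f₁ = 0)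
    obtain ⟨x', hx'⟩ := hlift (x ≫ ιK n A) (by
      rw [Category.assoc, ← h₁, reassoc_of% hx, zero_comp])
    obtain ⟨y, hy⟩ := exists_liftK (n := n) x' (by
      rw [← cancel_mono i, Preadditive.nsmul_comp, hx', zero_comp, ← Preadditive.comp_nsmul,
        nsmul_ιK, comp_zero])
    refine ⟨T, 𝟙 T, inferInstance, y, ?_⟩
    change 𝟙 T ≫ x = y ≫ f₀
    rw [← cancel_mono (ιK n A), Category.assoc y, h₀, reassoc_of% hy, hx', Category.id_comp]
  · rw [ShortComplex.exact_iff_exact_up_to_refinements]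
    intro T (x : T ⟶ K n I) (hx : x ≫ δ = 0)
    obtain ⟨T₁, π₁, hπ₁, a, ha⟩ := surjective_up_to_refinements_of_epi e (x ≫ ιK n I)
    obtain ⟨k', hk'⟩ := hlift (n • a) (by
      rw [Preadditive.nsmul_comp, ← ha, ← Preadditive.comp_nsmul, ← Preadditive.comp_nsmul,
        nsmul_ιK, comp_zero, comp_zero])
    have hq : k' ≫ qK n P = 0 := by
      rw [← hδ (π₁ ≫ x) a k' (by rw [← ha, Category.assoc]) hk', Category.assoc, hx, comp_zero]
    obtain ⟨T₂, π₂, hπ₂, c, hc⟩ := exists_nsmul_of_qK k' hq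
    obtain ⟨y, hy⟩ := exists_liftK (n := n) (π₂ ≫ a - c ≫ i) (by
      rw [smul_sub, ← Preadditive.comp_nsmul, ← hk', reassoc_of% hc, Preadditive.nsmul_comp,
        sub_self])
    refine ⟨T₂, π₂ ≫ π₁, inferInstance, y, ?_⟩
    change (π₂ ≫ π₁) ≫ x = y ≫ f₁
    rw [← cancel_mono (ιK n I), Category.assoc y, h₁, reassoc_of% hy, Preadditive.sub_comp,
      Category.assoc c, w, comp_zero, sub_zero, Category.assoc π₂ a, ← ha]
    simp only [Category.assoc]
  · rw [ShortComplex.exact_iff_exact_up_to_refinements]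
    intro T (z : T ⟶ cokernel (n • 𝟙 P)) (hz : z ≫ f₃ = 0)
    obtain ⟨T₁, π₁, hπ₁, k', hk'⟩ := surjective_up_to_refinements_of_epi (qK n P) z
    obtain ⟨T₂, π₂, hπ₂, a, ha⟩ := exists_nsmul_of_qK (k' ≫ i) (by
      rw [Category.assoc, ← h₃, ← Category.assoc, ← hk', Category.assoc, hz, comp_zero])
    obtain ⟨x, hx⟩ := exists_liftK (n := n) (a ≫ e) (by
      rw [← Preadditive.nsmul_comp, ← ha, Category.assoc, Category.assoc, w, comp_zero, comp_zero])
    refine ⟨T₂, π₂ ≫ π₁, inferInstance, x, ?_⟩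
    change (π₂ ≫ π₁) ≫ z = x ≫ δ
    rw [hδ x a (π₂ ≫ k') hx.symm (by rw [Category.assoc]; exact ha), Category.assoc, hk',
      Category.assoc]

/-- Cokernels of morphisms between objects of cofinite type. -/
theorem cof_cokernel {A B : Ind C} (hA : Cof A) (hB : Cof B) (f : A ⟶ B) : Cof (cokernel f) := by
  let e := Abelian.factorThruImage f
  let m := Abelian.image.ι f
  have hem : e ≫ m = f := Abelian.image.fac f
  have w₁ : kernel.ι f ≫ e = 0 := by
    rw [← cancel_mono m, Category.assoc, hem, kernel.condition, zero_comp]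
  have w₂ : m ≫ cokernel.π f = 0 := kernel.condition _
  have ex₁ : (ShortComplex.mk (kernel.ι f) e w₁).Exact := by
    rw [ShortComplex.exact_iff_exact_up_to_refinements]
    intro T y hy
    exact ⟨T, 𝟙 T, inferInstance, kernel.lift f y (by rw [← hem, reassoc_of% hy, zero_comp]),
      by simp⟩
  have ex₂ : (ShortComplex.mk m (cokernel.π f) w₂).Exact := by
    rw [ShortComplex.exact_iff_exact_up_to_refinements]
    intro T (y : T ⟶ B) (hy : y ≫ cokernel.π f = 0)
    obtain ⟨T', π, hπ, x, hx⟩ := Le.exists_lift (g := f) hy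
    exact ⟨T', π, hπ, x ≫ e, by
      change π ≫ y = (x ≫ e) ≫ m
      rw [Category.assoc, hem]; exact hx⟩
  exact cof_of_shortExact hart htor m (cokernel.π f) w₂ ex₂
    (cof_of_shortExact hart htor (kernel.ι f) e w₁ ex₁ (cof_kernel hA hB f) hA) hB

/-- Decreasing chains of subobjects of cofinite type are stationary. -/
theorem chain_stationary (p : ℕ) (hp : p.Prime)
    (hpow : ∀ X : C, ∃ n : ℕ, (p ^ n) • 𝟙 X = 0) {A : Ind C} (hA : Cof A) (S : ℕ → Subobject A)
    (hS : Antitone S) (hcof : ∀ m, Cof (S m : Ind C)) :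
    ∃ N : ℕ, ∀ m : ℕ, N ≤ m → S m = S N := by
  -- the `j`-th image inside `K p A`
  let t (m j : ℕ) : K (p ^ (j + 1)) (S m : Ind C) ⟶ K p A :=
    kernel.lift _ (p ^ j • (ιK (p ^ (j + 1)) (S m : Ind C) ≫ (S m).arrow)) (by
      rw [comp_nsmul_id, smul_smul, ← pow_succ', ← Preadditive.nsmul_comp, nsmul_ιK, zero_comp])
  have ht : ∀ m j, t m j ≫ ιK p A = p ^ j • (ιK (p ^ (j + 1)) (S m : Ind C) ≫ (S m).arrow) :=
    fun m j => kernel.lift_ι _ _ _
  have htj : ∀ m i j, i ≤ j → Le (t m j) (t m i) := by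
    intro m i j hij
    obtain ⟨d, rfl⟩ := Nat.exists_eq_add_of_le hij
    obtain ⟨x, hx⟩ := exists_liftK (n := p ^ (i + 1))
      (p ^ d • ιK (p ^ (i + d + 1)) (S m : Ind C))
      (by rw [smul_smul, ← pow_add, show i + 1 + d = i + d + 1 by omega, nsmul_ιK])
    have : t m (i + d) = x ≫ t m i := by
      rw [← cancel_mono (ιK p A), Category.assoc, ht, ht, Preadditive.comp_nsmul, ← Category.assoc,
        hx, Preadditive.nsmul_comp, smul_smul, ← pow_add]
    rw [this]
    exact le_comp _ _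
  have htm : ∀ m m' j, m ≤ m' → Le (t m' j) (t m j) := by
    intro m m' j hm
    obtain ⟨x, hx⟩ := exists_liftK (n := p ^ (j + 1))
      (ιK (p ^ (j + 1)) (S m' : Ind C) ≫ Subobject.ofLE _ _ (hS hm))
      (by rw [← Preadditive.nsmul_comp, nsmul_ιK, zero_comp])
    have : t m' j = x ≫ t m j := by
      rw [← cancel_mono (ιK p A), Category.assoc, ht, ht, Preadditive.comp_nsmul, ← Category.assoc,
        hx, Category.assoc, Subobject.ofLE_arrow]
    rw [this]
    exact le_comp _ _
  -- stabilisation in `j`, then in `m`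
  choose Nm hNm using fun m => exists_stable hart (hA p hp.pos)
    (fun j => hcof m _ (pow_pos hp.pos (j + 1))) (t m) (fun j => htj m j (j + 1) (by omega))
  have hR : ∀ m, Le (t (m + 1) (Nm (m + 1))) (t m (Nm m)) := fun m =>
    ((hNm (m + 1) (Nm (m + 1)) _ le_rfl (le_max_right (Nm m) _)).trans
      (htm m (m + 1) _ (by omega))).trans (htj m (Nm m) _ (le_max_left _ _))
  obtain ⟨M, hM⟩ := exists_stable hart (hA p hp.pos)
    (fun m => hcof m _ (pow_pos hp.pos (Nm m + 1))) (fun m => t m (Nm m)) hR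
  obtain ⟨Nd, hNd⟩ := exists_pow_stable hart htor (hcof M) p hp
  let k := max (Nm M) Nd
  -- multiples of `p^k` in `S M` lie in every later `S m`
  have claim : ∀ m, M ≤ m → ∀ (i : ℕ) (T : Ind C) (a : T ⟶ (S M : Ind C)),
      p ^ (k + i) • a = 0 → (p ^ k • a) ≫ (S M).arrow ≫ cokernel.π (S m).arrow = 0 := by
    intro m hm i
    induction i with
    | zero => intro T a ha; rw [Nat.add_zero] at ha; rw [ha, zero_comp]
    | succ i ih =>
        intro T a ha
        obtain ⟨a', ha'⟩ := exists_liftK (n := p ^ (k + i + 1)) a ha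
        let j' := max (Nm m) (k + i)
        have h1 : Le (t M (k + i)) (t m j') :=
          ((htj M (Nm M) (k + i) (le_trans (le_max_left _ _) (Nat.le_add_right k i))).trans
            (hM M m le_rfl hm)).trans (hNm m (Nm m) j' le_rfl (le_max_left _ _))
        obtain ⟨T', π, hπ, c, hc⟩ := (h1.comp_left a').exists_lift
        have hc' := congrArg (· ≫ ιK p A) hc
        simp only [Category.assoc, ht, Preadditive.comp_nsmul] at hc'
        rw [reassoc_of% ha'] at hc'
        let o := Subobject.ofLE _ _ (hS hm)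
        let b := π ≫ a - p ^ (j' - (k + i)) • (c ≫ ιK (p ^ (j' + 1)) (S m : Ind C) ≫ o)
        have hj' : k + i ≤ j' := le_max_right _ _
        have hb : p ^ (k + i) • b = 0 := by
          rw [← cancel_mono (S M).arrow, zero_comp]
          simp only [b, smul_sub, smul_smul, ← pow_add, Preadditive.sub_comp,
            Preadditive.nsmul_comp, Category.assoc, o, Subobject.ofLE_arrow]
          rw [show k + i + (j' - (k + i)) = j' by omega, hc', sub_self]
        have h2 := ih T' b hb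
        simp only [b, smul_sub, smul_smul, ← pow_add, Preadditive.sub_comp, Preadditive.nsmul_comp,
          Category.assoc, o, Subobject.ofLE_arrow_assoc, cokernel.condition, comp_zero, smul_zero,
          sub_zero] at h2
        rw [← cancel_epi π, comp_zero, Preadditive.nsmul_comp, Preadditive.comp_nsmul]
        exact h2
  -- every multiple of `p^k`
  have claim' : ∀ m, M ≤ m →
      (p ^ k • 𝟙 (S M : Ind C)) ≫ (S M).arrow ≫ cokernel.π (S m).arrow = 0 := by
    intro m hm
    refine eq_zero_of_forall _ fun X x => ?_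
    obtain ⟨i, hi⟩ := hpow X
    rw [← Category.assoc, comp_nsmul_id]
    refine claim m hm i _ x ?_
    have h' := congrArg (Ind.yoneda (C := C)).map hi
    rw [Functor.map_nsmul, CategoryTheory.Functor.map_id, Functor.map_zero] at h'
    rw [pow_add, mul_smul, ← Category.id_comp x, ← Preadditive.nsmul_comp, h', zero_comp,
      smul_zero]
  -- the bounded torsion parts stabilise
  let u (m : ℕ) : K (p ^ k) (S m : Ind C) ⟶ K (p ^ k) A :=
    kernel.map _ _ (S m).arrow (S m).arrow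
      (by rw [Preadditive.comp_nsmul, Preadditive.nsmul_comp, Category.comp_id, Category.id_comp])
  have hu : ∀ m, u m ≫ ιK (p ^ k) A = ιK (p ^ k) (S m : Ind C) ≫ (S m).arrow :=
    fun m => kernel.lift_ι _ _ _
  have hum : ∀ m, Le (u (m + 1)) (u m) := by
    intro m
    have : u (m + 1) = kernel.map _ _ (Subobject.ofLE _ _ (hS (Nat.le_succ m)))
        (Subobject.ofLE _ _ (hS (Nat.le_succ m)))
        (by rw [Preadditive.comp_nsmul, Preadditive.nsmul_comp, Category.comp_id,
          Category.id_comp]) ≫ u m := by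
      rw [← cancel_mono (ιK (p ^ k) A), Category.assoc, hu, hu, kernel.lift_ι_assoc,
        Category.assoc, Subobject.ofLE_arrow]
    rw [this]
    exact le_comp _ _
  obtain ⟨M₁, hM₁⟩ := exists_stable hart (hA _ (pow_pos hp.pos k))
    (fun m => hcof m _ (pow_pos hp.pos k)) u hum
  let M' := max M M₁
  refine ⟨M', fun m hm => le_antisymm (hS hm) (subobject_le_of_le ?_)⟩
  let o := Subobject.ofLE _ _ (hS (le_max_left M M₁ : M ≤ M'))
  obtain ⟨T₁, π₁, hπ₁, c, hc⟩ := ((hNd k (k + k) (le_max_right _ _)).comp_left o).exists_lift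
  simp only [comp_nsmul_id] at hc
  rw [Preadditive.comp_nsmul, pow_add, mul_smul] at hc
  -- `c' = p^k c` lands in `S M'`
  obtain ⟨T₂, π₂, hπ₂, d, hd⟩ := Le.exists_lift (g := (S M').arrow)
    (f := (p ^ k • c) ≫ (S M).arrow) (by
      simp only [Le, Category.assoc]
      have := claim' M' (le_max_left _ _)
      rw [← Category.comp_id c, ← Preadditive.comp_nsmul, Category.assoc, this, comp_zero])
  obtain ⟨y, hy⟩ := exists_liftK (n := p ^ k) (π₂ ≫ π₁ - d) (by
    have e1 : (π₂ ≫ (p ^ k • c)) ≫ (S M).arrow = (d ≫ o) ≫ (S M).arrow := by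
      rw [Category.assoc, hd, Category.assoc, Subobject.ofLE_arrow]
    rw [cancel_mono] at e1
    have hc2 := congrArg (π₂ ≫ ·) hc
    simp only [Preadditive.comp_nsmul] at hc2 e1
    rw [← cancel_mono o, zero_comp, smul_sub, Preadditive.sub_comp, Preadditive.nsmul_comp,
      Preadditive.nsmul_comp, ← e1, Category.assoc, hc2, sub_self])
  have h3 : y ≫ u M' ≫ ιK (p ^ k) A ≫ cokernel.π (S m).arrow = 0 := by
    obtain ⟨T₃, π₃, hπ₃, z, hz⟩ :=
      ((hM₁ M' m (le_max_right _ _) hm).comp_left y).exists_lift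
    rw [← cancel_epi π₃, comp_zero, reassoc_of% hz, reassoc_of% (hu m),
      cokernel.condition, comp_zero, comp_zero]
  rw [reassoc_of% (hu M'), reassoc_of% hy] at h3
  have h4 : d ≫ (S M').arrow ≫ cokernel.π (S m).arrow = 0 := by
    have := claim' m (le_trans (le_max_left _ _) hm)
    rw [← Category.assoc, ← hd]
    simp only [Category.assoc]
    rw [← Category.comp_id c, ← Preadditive.comp_nsmul, Category.assoc, this, comp_zero, comp_zero]
  simp only [Le]
  haveI := hπ₁
  rw [← cancel_epi (π₂ ≫ π₁), comp_zero]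
  have h5 := h3
  rw [Preadditive.sub_comp, h4, sub_zero] at h5
  exact h5

end Quotient

end Groth.Agent.IndCofLib
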