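import Mathlib.CategoryTheory.Abelian.Indization
import Mathlib.CategoryTheory.Abelian.Refinements
import Mathlib.CategoryTheory.Generator.Indization
import Mathlib.CategoryTheory.Limits.Preserves.Shapes.Kernels
import Mathlib.CategoryTheory.Subobject.ArtinianObject
import Mathlib.CategoryTheory.Subobject.Limits
import Mathlib.Algebra.Homology.ShortComplex.ShortExact
import Mathlib.CategoryTheory.Preadditive.LeftExact

/-!
# Ind-objects of a small abelian category: the image of `C` in `Ind C`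
-/

universe v u

open CategoryTheory CategoryTheory.Limits

namespace Groth.Agent.IndCofLib

section General

variable {V : Type u} [Category.{v} V] [Abelian V]

/-- `f` has image contained in that of `g`. -/
def Le {A T S : V} (f : T ⟶ A) (g : S ⟶ A) : Prop := f ≫ cokernel.π g = 0

lemma le_comp {A T S : V} (x : T ⟶ S) (g : S ⟶ A) : Le (x ≫ g) g := by
  simp [Le]

lemma Le.comp_left {A T T' S : V} {f : T ⟶ A} {g : S ⟶ A} (h : Le f g) (x : T' ⟶ T) :
    Le (x ≫ f) g := by
  simp only [Le, Category.assoc] at h ⊢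
  rw [h, comp_zero]

lemma le_refl' {A S : V} (g : S ⟶ A) : Le g g := cokernel.condition g

lemma Le.exists_lift {A T S : V} {f : T ⟶ A} {g : S ⟶ A} (h : Le f g) :
    ∃ (T' : V) (π : T' ⟶ T) (_ : Epi π) (x : T' ⟶ S), π ≫ f = x ≫ g :=
  (ShortComplex.exact_of_g_is_cokernel
    (ShortComplex.mk g (cokernel.π g) (cokernel.condition g))
    (cokernelIsCokernel g)).exact_up_to_refinements f h

lemma Le.trans {A T S R : V} {f : T ⟶ A} {g : S ⟶ A} {k : R ⟶ A} (h : Le f g) (h' : Le g k) :
    Le f k := by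
  obtain ⟨T', π, hπ, x, hx⟩ := h.exists_lift
  simp only [Le] at h' ⊢
  rw [← cancel_epi π, comp_zero, reassoc_of% hx, h', comp_zero]

lemma imageSubobject_le_of_le {A T S : V} {f : T ⟶ A} {g : S ⟶ A} (h : Le f g) :
    imageSubobject f ≤ imageSubobject g := by
  have hz : f ≫ cokernel.π (imageSubobject g).arrow = 0 := by
    obtain ⟨T', π, hπ, x, hx⟩ := h.exists_lift
    rw [← cancel_epi π, comp_zero, reassoc_of% hx, ← imageSubobject_arrow_comp_assoc g,
      cokernel.condition, comp_zero, comp_zero]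
  exact imageSubobject_le f (Abelian.monoLift (imageSubobject g).arrow f hz)
    (Abelian.monoLift_comp _ _ _)

lemma subobject_le_of_le {A : V} {P Q : Subobject A} (h : Le P.arrow Q.arrow) : P ≤ Q :=
  Subobject.le_of_comm (Abelian.monoLift Q.arrow P.arrow h) (Abelian.monoLift_comp _ _ _)

lemma le_of_subobject_le {A : V} {P Q : Subobject A} (h : P ≤ Q) : Le P.arrow Q.arrow := by
  rw [← Subobject.ofLE_arrow h]
  exact le_comp _ _

end General

variable {C : Type v} [SmallCategory C] [Abelian C]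

/-- The objects of `Ind C` coming from `C`. -/
abbrev IsObj (M : Ind C) : Prop := (Ind.yoneda (C := C)).essImage M

instance additive_yoneda : (Ind.yoneda (C := C)).Additive := by
  haveI : (Ind.yoneda (C := C)).PreservesZeroMorphisms :=
    Functor.preservesZeroMorphisms_of_full _
  exact Functor.additive_of_preserves_binary_products _

/-- Morphisms vanish if they vanish on all objects of `C`. -/
lemma eq_zero_of_forall {A B : Ind C} (h : A ⟶ B)
    (hx : ∀ (X : C) (x : Ind.yoneda.obj X ⟶ A), x ≫ h = 0) : h = 0 := by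
  refine Ind.isSeparating_range_yoneda h 0 ?_
  rintro G ⟨X⟩ x
  rw [hx X x, comp_zero]

lemma isObj_yoneda (X : C) : IsObj (Ind.yoneda.obj X) := ⟨X, ⟨Iso.refl _⟩⟩

lemma isObj_of_iso {M N : Ind C} (e : M ≅ N) (h : IsObj M) : IsObj N := Functor.essImage.ofIso e h

lemma isObj_cokernel {M N : Ind C} (f : M ⟶ N) (hM : IsObj M) (hN : IsObj N) :
    IsObj (cokernel f) := by
  obtain ⟨X, ⟨eX⟩⟩ := hM
  obtain ⟨Y, ⟨eY⟩⟩ := hN
  let g : X ⟶ Y := (Ind.yoneda (C := C)).preimage (eX.hom ≫ f ≫ eY.inv)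
  refine ⟨cokernel g, ⟨PreservesCokernel.iso _ g ≪≫ cokernel.mapIso _ _ eX eY ?_⟩⟩
  simp [g]

lemma isObj_kernel {M N : Ind C} (f : M ⟶ N) (hM : IsObj M) (hN : IsObj N) :
    IsObj (kernel f) := by
  obtain ⟨X, ⟨eX⟩⟩ := hM
  obtain ⟨Y, ⟨eY⟩⟩ := hN
  let g : X ⟶ Y := (Ind.yoneda (C := C)).preimage (eX.hom ≫ f ≫ eY.inv)
  refine ⟨kernel g, ⟨PreservesKernel.iso _ g ≪≫ kernel.mapIso _ _ eX eY ?_⟩⟩
  simp [g]

lemma isObj_of_isZero {M : Ind C} (h : IsZero M) : IsObj M := by
  obtain ⟨Z, hZ⟩ := HasZeroObject.zero (C := C)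
  exact ⟨Z, ⟨(Functor.map_isZero Ind.yoneda hZ).iso h⟩⟩

lemma isObj_biprod {M N : Ind C} (hM : IsObj M) (hN : IsObj N) : IsObj (M ⊞ N) := by
  obtain ⟨X, ⟨eX⟩⟩ := hM
  obtain ⟨Y, ⟨eY⟩⟩ := hN
  haveI := Limits.preservesBinaryBiproducts_of_preservesBinaryProducts (Ind.yoneda (C := C))
  exact ⟨X ⊞ Y, ⟨Functor.mapBiprod _ X Y ≪≫ biprod.mapIso eX eY⟩⟩

/-- A cokernel of objects of `C` is an object of `C`. -/
lemma isObj_of_exact_epi {P Q R : Ind C} (f : P ⟶ Q) (g : Q ⟶ R) (w : f ≫ g = 0) [Epi g]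
    (h : (ShortComplex.mk f g w).Exact) (hP : IsObj P) (hQ : IsObj Q) : IsObj R :=
  isObj_of_iso ((cokernelIsCokernel f).coconePointUniqueUpToIso h.gIsCokernel)
    (isObj_cokernel f hP hQ)

/-- A kernel of objects of `C` is an object of `C`. -/
lemma isObj_of_exact_mono {P Q R : Ind C} (f : P ⟶ Q) (g : Q ⟶ R) (w : f ≫ g = 0) [Mono f]
    (h : (ShortComplex.mk f g w).Exact) (hQ : IsObj Q) (hR : IsObj R) : IsObj P :=
  isObj_of_iso ((kernelIsKernel g).conePointUniqueUpToIso h.fIsKernel)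
    (isObj_kernel g hQ hR)

/-- Objects of `C` are killed by a positive integer, as are maps out of them. -/
lemma exists_nsmul_eq_zero (htor : ∀ X : C, ∃ n : ℕ, 0 < n ∧ n • 𝟙 X = 0) {A : Ind C} (X : C)
    (x : Ind.yoneda.obj X ⟶ A) : ∃ n : ℕ, 0 < n ∧ n • x = 0 := by
  obtain ⟨n, hn, h⟩ := htor X
  refine ⟨n, hn, ?_⟩
  have h' := congrArg (Ind.yoneda (C := C)).map h
  rw [Functor.map_nsmul, CategoryTheory.Functor.map_id, Functor.map_zero] at h'
  rw [← Category.id_comp x, ← Preadditive.nsmul_comp, h', zero_comp]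

/-- A map onto an object of `C` stays epi at some stage of a presentation of its source. -/
lemma exists_stage_epi {E R : Ind C} (g : E ⟶ R) [Epi g] (hR : IsObj R) :
    ∃ (X : C) (e : Ind.yoneda.obj X ⟶ E), Epi (e ≫ g) := by
  obtain ⟨Z, ⟨eZ⟩⟩ := hR
  let F : E.presentation.I ⥤ Ind C := E.presentation.F ⋙ Ind.yoneda
  let e : colimit F ≅ E := Ind.colimitPresentationCompYoneda E
  let ε : F ⟶ (Functor.const _).obj R :=
    { app := fun i => colimit.ι F i ≫ e.hom ≫ g
      naturality := fun i j f => by simp }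
  let G : E.presentation.I ⥤ Ind C :=
    { obj := fun i => cokernel (ε.app i)
      map := fun {i j} f => cokernel.map _ _ (F.map f) (𝟙 R) (by
        simpa using (ε.naturality f).symm)
      map_id := fun i => by apply coequalizer.hom_ext; simp
      map_comp := fun f g => by apply coequalizer.hom_ext; simp }
  -- the common composite to the colimit of the cokernels vanishes
  have hG : ∀ i j (f : i ⟶ j), cokernel.π (ε.app i) ≫ G.map f = cokernel.π (ε.app j) :=
    fun i j f => (cokernel.π_desc _ _ _).trans (Category.id_comp _)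
  have hconst : ∀ i j, cokernel.π (ε.app i) ≫ colimit.ι G i =
      cokernel.π (ε.app j) ≫ colimit.ι G j := fun i j => by
    rw [← colimit.w G (IsFiltered.leftToMax i j), ← colimit.w G (IsFiltered.rightToMax i j),
      reassoc_of% (hG i _ (IsFiltered.leftToMax i j)),
      reassoc_of% (hG j _ (IsFiltered.rightToMax i j))]
  have i₀ : E.presentation.I := (IsFiltered.nonempty (C := E.presentation.I)).some
  have ht : cokernel.π (ε.app i₀) ≫ colimit.ι G i₀ = 0 := by
    rw [← cancel_epi g, ← cancel_epi e.hom, comp_zero, comp_zero]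
    refine colimit.hom_ext fun i => ?_
    rw [comp_zero, hconst i₀ i]
    simp only [← Category.assoc]
    rw [show (colimit.ι F i ≫ e.hom) ≫ g = ε.app i from Category.assoc _ _ _, cokernel.condition,
      zero_comp]
  obtain ⟨j, hj⟩ : ∃ j, cokernel.π (ε.app j) = 0 := by
    let P : Cᵒᵖ ⥤ Type v := (Ind.inclusion C).obj (colimit G)
    let yZ := Ind.yonedaCompInclusion.app Z
    -- maps out of `Z` into the colimit are computed stagewise
    let a (i) : (Ind.inclusion C ⋙ (evaluation _ _).obj (Opposite.op Z)).obj (G.obj i) :=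
      yonedaEquiv (yZ.inv ≫ (Ind.inclusion C).map (eZ.hom ≫ cokernel.π (ε.app i)))
    let b (i) : (Ind.inclusion C ⋙ (evaluation _ _).obj (Opposite.op Z)).obj (G.obj i) :=
      yonedaEquiv (yZ.inv ≫ (Ind.inclusion C).map 0)
    have hc := isColimitOfPreserves (Ind.inclusion C ⋙ (evaluation _ _).obj (Opposite.op Z))
      (colimit.isColimit G)
    have heq : ((Ind.inclusion C ⋙ (evaluation _ _).obj (Opposite.op Z)).mapCocone
        (colimit.cocone G)).ι.app i₀ (a i₀) =
        ((Ind.inclusion C ⋙ (evaluation _ _).obj (Opposite.op Z)).mapCocone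
        (colimit.cocone G)).ι.app i₀ (b i₀) := by
      change ((Ind.inclusion C).map (colimit.ι G i₀)).app (Opposite.op Z) (a i₀) =
        ((Ind.inclusion C).map (colimit.ι G i₀)).app (Opposite.op Z) (b i₀)
      rw [← yonedaEquiv_comp, ← yonedaEquiv_comp]
      simp only [Category.assoc, ← Functor.map_comp, ht, comp_zero, zero_comp]
    obtain ⟨j, f, f', hff⟩ := (Types.FilteredColimit.isColimit_eq_iff _ hc).1 heq
    refine ⟨j, ?_⟩
    change ((Ind.inclusion C).map (G.map f)).app (Opposite.op Z) (a i₀) =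
      ((Ind.inclusion C).map (G.map f')).app (Opposite.op Z) (b i₀) at hff
    rw [← yonedaEquiv_comp, ← yonedaEquiv_comp] at hff
    have h := yonedaEquiv.injective hff
    simp only [Category.assoc, ← Functor.map_comp, hG, zero_comp] at h
    have h' := (Ind.inclusion C).map_injective ((cancel_epi yZ.inv).1 h)
    rw [← cancel_epi eZ.hom, comp_zero]
    exact h'
  exact ⟨_, colimit.ι F j ≫ e.hom, by
    rw [Category.assoc]; exact Abelian.epi_of_cokernel_π_eq_zero _ hj⟩

/-- Objects of `C` are closed under extensions in `Ind C`. -/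
lemma isObj_of_shortExact {S : ShortComplex (Ind C)} (hS : S.ShortExact) (h₁ : IsObj S.X₁)
    (h₃ : IsObj S.X₃) : IsObj S.X₂ := by
  haveI := hS.mono_f
  haveI := hS.epi_g
  obtain ⟨X, e, he⟩ := exists_stage_epi S.g h₃
  let κ := kernel.ι (e ≫ S.g)
  let l : kernel (e ≫ S.g) ⟶ S.X₁ := hS.exact.lift (κ ≫ e) (by
    rw [Category.assoc, kernel.condition])
  let u := biprod.lift (-l) κ
  let d := biprod.desc S.f e
  have hl : l ≫ S.f = κ ≫ e := hS.exact.lift_f _ _
  have w : u ≫ d = 0 := by simp [u, d, hl]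
  haveI : Epi d := by
    rw [epi_iff_surjective_up_to_refinements]
    intro T y
    obtain ⟨T₁, π₁, hπ₁, a, ha⟩ := surjective_up_to_refinements_of_epi (e ≫ S.g) (y ≫ S.g)
    obtain ⟨T₂, π₂, hπ₂, b, hb⟩ := hS.exact.exact_up_to_refinements (π₁ ≫ y - a ≫ e)
      (by simp [ha])
    exact ⟨T₂, π₂ ≫ π₁, inferInstance, biprod.lift b (π₂ ≫ a), by simp [d, ← hb]⟩
  refine isObj_of_exact_epi u d w ?_ (isObj_kernel (e ≫ S.g) (isObj_yoneda X) h₃)
    (isObj_biprod h₁ (isObj_yoneda X))
  rw [ShortComplex.exact_iff_exact_up_to_refinements]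
  intro T z hz
  change T ⟶ S.X₁ ⊞ _ at z
  have hz' : (z ≫ biprod.fst) ≫ S.f + (z ≫ biprod.snd) ≫ e = 0 := by
    simpa [d, biprod.desc_eq] using hz
  have h0 : (z ≫ biprod.snd) ≫ e ≫ S.g = 0 := by
    have := congrArg (· ≫ S.g) hz'
    simpa using this
  refine ⟨T, 𝟙 T, inferInstance, kernel.lift _ (z ≫ biprod.snd) h0, ?_⟩
  dsimp
  rw [Category.id_comp]
  apply biprod.hom_ext
  · simp only [u, Category.assoc, biprod.lift_fst, Preadditive.comp_neg]
    rw [← cancel_mono S.f]
    simp only [Preadditive.neg_comp, Category.assoc, hl, κ, kernel.lift_ι_assoc]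
    exact eq_neg_of_add_eq_zero_left (by simpa using hz')
  · simp [u, κ]

end Groth.Agent.IndCofLib
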