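import Groth.Agent.IndCofLib.Basic
import Mathlib.GroupTheory.OrderOfElement
import Mathlib.Data.Nat.Factorization.Induction
import Mathlib.Data.Nat.Factorization.Basic
import Mathlib.Tactic.Ring

/-!
# Ind-objects of cofinite type
-/

universe v

open CategoryTheory CategoryTheory.Limits

namespace Groth.Agent.IndCofLib

variable {C : Type v} [SmallCategory C] [Abelian C]

/-- The `n`-torsion subobject. -/
noncomputable abbrev K (n : ℕ) (A : Ind C) : Ind C := kernel (n • 𝟙 A)

/-- The inclusion of the `n`-torsion. -/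
noncomputable abbrev ιK (n : ℕ) (A : Ind C) : K n A ⟶ A := kernel.ι (n • 𝟙 A)

/-- The quotient by `n`. -/
noncomputable abbrev qK (n : ℕ) (A : Ind C) : A ⟶ cokernel (n • 𝟙 A) := cokernel.π (n • 𝟙 A)

lemma nsmul_ιK (n : ℕ) (A : Ind C) : n • ιK n A = 0 := by
  rw [← Category.comp_id (ιK n A), ← Preadditive.comp_nsmul]
  exact kernel.condition _

lemma nsmul_qK (n : ℕ) (A : Ind C) : n • qK n A = 0 := by
  rw [← Category.id_comp (qK n A), ← Preadditive.nsmul_comp]
  exact cokernel.condition _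

lemma comp_nsmul_id {T A : Ind C} (n : ℕ) (x : T ⟶ A) : x ≫ (n • 𝟙 A) = n • x := by
  rw [Preadditive.comp_nsmul, Category.comp_id]

lemma exists_liftK {n : ℕ} {A T : Ind C} (x : T ⟶ A) (hx : n • x = 0) :
    ∃ x' : T ⟶ K n A, x' ≫ ιK n A = x :=
  ⟨kernel.lift _ x (by rw [comp_nsmul_id, hx]), kernel.lift_ι _ _ _⟩

/-- Elements killed modulo `n` are multiples of `n`, up to refinement. -/
lemma exists_nsmul_of_qK {n : ℕ} {A T : Ind C} (x : T ⟶ A) (hx : x ≫ qK n A = 0) :
    ∃ (T' : Ind C) (π : T' ⟶ T) (_ : Epi π) (c : T' ⟶ A), π ≫ x = n • c := by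
  obtain ⟨T', π, hπ, c, hc⟩ := Le.exists_lift (g := n • 𝟙 A) hx
  exact ⟨T', π, hπ, c, by rw [hc, comp_nsmul_id]⟩

/-- An ind-object of cofinite type. -/
def Cof (A : Ind C) : Prop := ∀ n : ℕ, 0 < n → IsObj (K n A)

section Chain

variable (hart : ∀ X : C, IsArtinianObject X)
include hart

/-- Decreasing images in an object of `C` stabilise. -/
theorem exists_stable {P : Ind C} (hP : IsObj P) {E : ℕ → Ind C} (hE : ∀ j, IsObj (E j))
    (t : ∀ j, E j ⟶ P) (ht : ∀ j, Le (t (j + 1)) (t j)) :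
    ∃ N, ∀ i j, N ≤ i → i ≤ j → Le (t i) (t j) := by
  obtain ⟨X, ⟨eX⟩⟩ := hP
  have hY : ∀ j, ∃ (Y : C), Nonempty (Ind.yoneda.obj Y ≅ E j) := fun j => hE j
  choose Y hY' using hY
  let eY := fun j => (hY' j).some
  let s : ∀ j, Y j ⟶ X := fun j => Ind.yoneda.preimage ((eY j).hom ≫ t j ≫ eX.inv)
  -- `Le` is detected in `C`
  have hiff : ∀ i j, Le (s i) (s j) ↔ Le (t i) (t j) := by
    intro i j
    have h1 : Le (s i) (s j) ↔
        Le ((Ind.yoneda (C := C)).map (s i)) ((Ind.yoneda (C := C)).map (s j)) := by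
      simp only [Le]
      rw [← PreservesCokernel.π_iso_hom (Ind.yoneda (C := C)) (s j), ← Category.assoc,
        ← Functor.map_comp]
      constructor
      · intro h; rw [h, Functor.map_zero, zero_comp]
      · intro h
        refine (Ind.yoneda (C := C)).map_injective ?_
        rw [Functor.map_zero]
        exact (cancel_mono (PreservesCokernel.iso _ (s j)).hom).1 (h.trans zero_comp.symm)
    rw [h1]
    simp only [s, Functor.map_preimage]
    constructor
    · intro h
      have h2 : Le (t i ≫ eX.inv) (t j ≫ eX.inv) := by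
        have hA : Le ((eY i).hom ≫ t i ≫ eX.inv) (t j ≫ eX.inv) := h.trans (le_comp _ _)
        have := hA.comp_left (eY i).inv
        rwa [Iso.inv_hom_id_assoc] at this
      obtain ⟨T, π, hπ, x, hx⟩ := h2.exists_lift
      have hx' : π ≫ t i = x ≫ t j := by
        rw [← cancel_mono eX.inv, Category.assoc, Category.assoc, hx]
      simp only [Le]
      rw [← cancel_epi π, comp_zero, reassoc_of% hx', cokernel.condition, comp_zero]
    · intro h
      obtain ⟨T, π, hπ, x, hx⟩ := (h.comp_left (eY i).hom).exists_lift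
      simp only [Le]
      have hx' : π ≫ (eY i).hom ≫ t i ≫ eX.inv =
          (x ≫ (eY j).inv) ≫ (eY j).hom ≫ t j ≫ eX.inv := by
        simp only [Category.assoc, Iso.inv_hom_id_assoc]
        rw [← reassoc_of% hx]
      rw [← cancel_epi π, comp_zero, ← Category.assoc π, hx']
      have h0 : (eY j).hom ≫ t j ≫ eX.inv ≫ cokernel.π ((eY j).hom ≫ t j ≫ eX.inv) = 0 := by
        simpa only [Category.assoc] using cokernel.condition ((eY j).hom ≫ t j ≫ eX.inv)
      simp only [Category.assoc, h0, comp_zero]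
  haveI := hart X
  obtain ⟨N, hN⟩ := antitone_chain_condition_of_isArtinianObject (X := X)
    ⟨fun j => OrderDual.toDual (imageSubobject (s j)), monotone_nat_of_le_succ fun j =>
      OrderDual.toDual_le_toDual.2 (imageSubobject_le_of_le ((hiff (j + 1) j).2 (ht j)))⟩
  refine ⟨N, fun i j hi hij => (hiff i j).1 ?_⟩
  have e : imageSubobject (s i) = imageSubobject (s j) :=
    OrderDual.toDual.injective ((hN i hi).symm.trans (hN j (hi.trans hij)))
  simp only [Le]
  rw [← imageSubobject_arrow_comp_assoc (s i)]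
  have hz : (imageSubobject (s j)).arrow ≫ cokernel.π (s j) = 0 := by
    rw [← cancel_epi (factorThruImageSubobject (s j)), comp_zero, ← Category.assoc,
      imageSubobject_arrow_comp, cokernel.condition]
  rw [← Subobject.ofLE_arrow e.le, Category.assoc, hz, comp_zero, comp_zero]

end Chain

/-- The element map `K (p^(j+1)) A ⟶ K p A` given by `p^j`. -/
noncomputable def tp (p j : ℕ) (A : Ind C) : K (p ^ (j + 1)) A ⟶ K p A :=
  kernel.lift _ (p ^ j • ιK (p ^ (j + 1)) A)
    (by rw [comp_nsmul_id, smul_smul, ← pow_succ', nsmul_ιK])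

lemma tp_ιK (p j : ℕ) (A : Ind C) : tp p j A ≫ ιK p A = p ^ j • ιK (p ^ (j + 1)) A :=
  kernel.lift_ι _ _ _

lemma tp_le (p j : ℕ) (A : Ind C) : Le (tp p (j + 1) A) (tp p j A) := by
  obtain ⟨x, hx⟩ := exists_liftK (n := p ^ (j + 1)) (p • ιK (p ^ (j + 1 + 1)) A)
    (by rw [smul_smul, ← pow_succ, nsmul_ιK])
  have : tp p (j + 1) A = x ≫ tp p j A := by
    rw [← cancel_mono (ιK p A), Category.assoc, tp_ιK, tp_ιK, Preadditive.comp_nsmul, hx,
      smul_smul, ← pow_succ]
  rw [this]
  exact le_comp _ _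

section Torsion

variable (hart : ∀ X : C, IsArtinianObject X) (htor : ∀ X : C, ∃ n : ℕ, 0 < n ∧ n • 𝟙 X = 0)
  {A : Ind C} (hA : Cof A)
include hart hA

/-- The stabilisation, on `p`-primary elements. -/
lemma exists_primary_div (p : ℕ) (hp : 0 < p) :
    ∃ N, ∀ n, N ≤ n → ∀ (m : ℕ) (T : Ind C) (a : T ⟶ A), p ^ (m + n) • a = 0 →
      (p ^ n • a) ≫ qK (p ^ (n + 1)) A = 0 := by
  obtain ⟨N, hN⟩ := exists_stable hart (hA p hp) (fun j => hA _ (pow_pos hp _))
    (fun j => tp p j A) (fun j => tp_le p j A)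
  refine ⟨N, fun n hn m => ?_⟩
  induction m with
  | zero => intro T a ha; rw [Nat.zero_add] at ha; rw [ha, zero_comp]
  | succ m ih =>
      intro T a ha
      obtain ⟨a', ha'⟩ := exists_liftK (n := p ^ (m + n + 1)) a
        (by rw [show m + n + 1 = m + 1 + n by omega]; exact ha)
      obtain ⟨T', π, hπ, c, hc⟩ :=
        ((hN (m + n) (m + n + 1) (by omega) (by omega)).comp_left a').exists_lift
      have hc' := congrArg (· ≫ ιK p A) hc
      simp only [Category.assoc, tp_ιK, Preadditive.comp_nsmul, ha'] at hc'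
      have h0 : p ^ (m + n) • (π ≫ a - p • (c ≫ ιK (p ^ (m + n + 1 + 1)) A)) = 0 := by
        rw [smul_sub, hc', smul_smul, ← pow_succ, sub_self]
      have h1 := ih T' _ h0
      rw [smul_sub, smul_smul, ← pow_succ, Preadditive.sub_comp] at h1
      have h2 : (p ^ (n + 1) • (c ≫ ιK (p ^ (m + n + 1 + 1)) A)) ≫ qK (p ^ (n + 1)) A = 0 := by
        rw [Preadditive.nsmul_comp, ← Preadditive.comp_nsmul, nsmul_qK, comp_zero]
      rw [h2, sub_zero, ← Preadditive.comp_nsmul, Category.assoc] at h1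
      rw [← cancel_epi π, comp_zero]
      exact h1

include htor

/-- Images of powers of a prime stabilise. -/
theorem exists_pow_stable (p : ℕ) (hp : p.Prime) :
    ∃ N, ∀ i j, N ≤ i → Le (p ^ i • 𝟙 A) (p ^ j • 𝟙 A) := by
  obtain ⟨N, hN⟩ := exists_primary_div hart hA p hp.pos
  have hstep : ∀ n, N ≤ n → Le (p ^ n • 𝟙 A) (p ^ (n + 1) • 𝟙 A) := by
    intro n hn
    refine eq_zero_of_forall _ fun X x => ?_
    obtain ⟨M, hM, hMx⟩ := exists_nsmul_eq_zero htor X x
    obtain ⟨m, u, hu, hMu⟩ : ∃ m u : ℕ, Nat.Coprime p u ∧ M = p ^ m * u := by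
      obtain ⟨m, u, hu, hMu⟩ := Nat.exists_eq_pow_mul_and_not_dvd hM.ne' p hp.ne_one
      exact ⟨m, u, (Nat.Prime.coprime_iff_not_dvd hp).2 hu, hMu⟩
    set z := (p ^ n • x) ≫ qK (p ^ (n + 1)) A
    have h1 : p • z = 0 := by
      rw [← Preadditive.nsmul_comp, smul_smul, ← pow_succ', Preadditive.nsmul_comp,
        ← Preadditive.comp_nsmul, nsmul_qK, comp_zero]
    have h2 : u • z = 0 := by
      rw [← Preadditive.nsmul_comp, smul_comm]
      refine hN n hn m _ (u • x) ?_
      rw [smul_smul, show p ^ (m + n) * u = p ^ n * M by rw [hMu]; ring, ← smul_smul, hMx,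
        smul_zero]
    have h3 : z = 0 := by
      have d1 := addOrderOf_dvd_of_nsmul_eq_zero h1
      have d2 := addOrderOf_dvd_of_nsmul_eq_zero h2
      exact AddMonoid.addOrderOf_eq_one_iff.1 (Nat.Coprime.eq_one_of_dvd (Nat.Coprime.coprime_dvd_left d1 hu) d2)
    rw [← Category.assoc, comp_nsmul_id]
    exact h3
  refine ⟨N, fun i j hi => ?_⟩
  rcases le_total i j with hij | hij
  · induction j, hij using Nat.le_induction with
    | base => exact le_refl' _
    | succ j hij ih => exact ih.trans (hstep j (hi.trans hij))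
  · obtain ⟨d, rfl⟩ := Nat.exists_eq_add_of_le hij
    rw [show p ^ (j + d) • 𝟙 A = (p ^ d • 𝟙 A) ≫ (p ^ j • 𝟙 A) by
      rw [comp_nsmul_id, smul_smul, ← pow_add]]
    exact le_comp _ _

/-- The quotient by a prime is an object of `C`. -/
theorem isObj_quot_prime (p : ℕ) (hp : p.Prime) : IsObj (cokernel (p • 𝟙 A)) := by
  obtain ⟨N, hN⟩ := exists_pow_stable hart htor hA p hp
  let L := N + 1
  let r := ιK (p ^ L) A ≫ qK p A
  haveI : Epi r := by
    rw [epi_iff_surjective_up_to_refinements]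
    intro T y
    obtain ⟨T₁, π₁, hπ₁, a, ha⟩ := surjective_up_to_refinements_of_epi (qK p A) y
    obtain ⟨T₂, π₂, hπ₂, c, hc⟩ := ((hN L (L + L) (by omega)).comp_left a).exists_lift
    simp only [comp_nsmul_id] at hc
    rw [Preadditive.comp_nsmul, pow_add p L L, mul_smul] at hc
    obtain ⟨a', ha'⟩ := exists_liftK (n := p ^ L) (π₂ ≫ a - p ^ L • c)
      (by rw [smul_sub, hc, sub_self])
    refine ⟨T₂, π₂ ≫ π₁, inferInstance, a', ?_⟩
    rw [Category.assoc, ha, reassoc_of% ha', Preadditive.sub_comp, Preadditive.nsmul_comp,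
      show L = N + 1 from rfl, pow_succ, mul_smul, ← Preadditive.comp_nsmul, nsmul_qK, comp_zero,
      smul_zero, sub_zero, Category.assoc]
  let t : K (p ^ (L + 1)) A ⟶ K (p ^ L) A :=
    kernel.lift _ (p • ιK (p ^ (L + 1)) A) (by rw [comp_nsmul_id, smul_smul, ← pow_succ, nsmul_ιK])
  have ht : t ≫ ιK (p ^ L) A = p • ιK (p ^ (L + 1)) A := kernel.lift_ι _ _ _
  have w : t ≫ r = 0 := by
    simp only [r]
    rw [reassoc_of% ht, Preadditive.nsmul_comp, ← Preadditive.comp_nsmul, nsmul_qK, comp_zero]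
  refine isObj_of_exact_epi t r w ?_ (hA _ (pow_pos hp.pos _)) (hA _ (pow_pos hp.pos _))
  rw [ShortComplex.exact_iff_exact_up_to_refinements]
  intro T (x : T ⟶ K (p ^ L) A) (hx : x ≫ r = 0)
  obtain ⟨T', π, hπ, c, hc⟩ := exists_nsmul_of_qK (x ≫ ιK (p ^ L) A)
    (by simpa [r] using hx)
  obtain ⟨c', hc'⟩ := exists_liftK (n := p ^ (L + 1)) c (by
    rw [pow_succ, mul_smul, ← hc, ← Preadditive.comp_nsmul, ← Preadditive.comp_nsmul, nsmul_ιK,
      comp_zero, comp_zero])
  refine ⟨T', π, hπ, c', ?_⟩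
  change π ≫ x = c' ≫ t
  rw [← cancel_mono (ιK (p ^ L) A), Category.assoc, Category.assoc, ht, hc,
    Preadditive.comp_nsmul, hc']

/-- The quotient by any positive integer is an object of `C`. -/
theorem isObj_quot (n : ℕ) (hn : 0 < n) : IsObj (cokernel (n • 𝟙 A)) := by
  induction n using Nat.recOnMul with
  | zero => omega
  | one =>
      refine isObj_of_isZero ((IsZero.iff_id_eq_zero _).2 ?_)
      rw [← cancel_epi (qK 1 A), Category.comp_id, comp_zero]
      simpa using nsmul_qK 1 A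
  | prime p hp => exact isObj_quot_prime hart htor hA p hp
  | mul a b iha ihb =>
      have ha : 0 < a := Nat.pos_of_mul_pos_right hn
      have hb : 0 < b := Nat.pos_of_mul_pos_left hn
      let f : cokernel (a • 𝟙 A) ⟶ cokernel ((a * b) • 𝟙 A) :=
        cokernel.desc _ (b • qK (a * b) A)
          (by rw [Preadditive.nsmul_comp, Category.id_comp, smul_smul, nsmul_qK])
      let g : cokernel ((a * b) • 𝟙 A) ⟶ cokernel (b • 𝟙 A) :=
        cokernel.desc _ (qK b A)
          (by rw [Preadditive.nsmul_comp, Category.id_comp, mul_smul, nsmul_qK, smul_zero])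
      have hf : qK a A ≫ f = b • qK (a * b) A := cokernel.π_desc _ _ _
      have hg : qK (a * b) A ≫ g = qK b A := cokernel.π_desc _ _ _
      let k : K b A ⟶ cokernel (a • 𝟙 A) := ιK b A ≫ qK a A
      have wk : k ≫ f = 0 := by
        simp only [k, Category.assoc, hf]
        rw [Preadditive.comp_nsmul, ← Preadditive.nsmul_comp, nsmul_ιK, zero_comp]
      have hk : (ShortComplex.mk k f wk).Exact := by
        rw [ShortComplex.exact_iff_exact_up_to_refinements]
        intro T (y : T ⟶ cokernel (a • 𝟙 A)) (hy : y ≫ f = 0)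
        obtain ⟨T₁, π₁, hπ₁, x, hx⟩ := surjective_up_to_refinements_of_epi (qK a A) y
        have h0 : (b • x) ≫ qK (a * b) A = 0 := by
          rw [Preadditive.nsmul_comp, ← Preadditive.comp_nsmul, ← hf, ← Category.assoc, ← hx,
            Category.assoc, hy, comp_zero]
        obtain ⟨T₂, π₂, hπ₂, c, hc⟩ := exists_nsmul_of_qK (b • x) h0
        obtain ⟨x', hx'⟩ := exists_liftK (n := b) (π₂ ≫ x - a • c) (by
          rw [smul_sub, ← Preadditive.comp_nsmul, hc, smul_smul, mul_comm, sub_self])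
        refine ⟨T₂, π₂ ≫ π₁, inferInstance, x', ?_⟩
        change (π₂ ≫ π₁) ≫ y = x' ≫ ιK b A ≫ qK a A
        rw [Category.assoc, hx, reassoc_of% hx', Preadditive.sub_comp, Preadditive.nsmul_comp,
          ← Preadditive.comp_nsmul, nsmul_qK, comp_zero, sub_zero, Category.assoc]
      let f' : cokernel k ⟶ cokernel ((a * b) • 𝟙 A) := cokernel.desc k f wk
      haveI : Mono f' := ShortComplex.exact_iff_mono_cokernel_desc _ |>.1 hk
      haveI : Epi g := by
        have : Epi (qK (a * b) A ≫ g) := by rw [hg]; infer_instance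
        exact epi_of_epi (qK (a * b) A) g
      have wg : f' ≫ g = 0 := by
        rw [← cancel_epi (cokernel.π k), cokernel.π_desc_assoc, comp_zero, ← cancel_epi (qK a A),
          reassoc_of% hf, Preadditive.nsmul_comp, hg, nsmul_qK, comp_zero]
      refine isObj_of_shortExact (S := ShortComplex.mk f' g wg) ⟨?_⟩
        (isObj_cokernel k (hA b hb) (iha ha)) (ihb hb)
      rw [ShortComplex.exact_iff_exact_up_to_refinements]
      intro T (y : T ⟶ cokernel ((a * b) • 𝟙 A)) (hy : y ≫ g = 0)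
      obtain ⟨T₁, π₁, hπ₁, x, hx⟩ := surjective_up_to_refinements_of_epi (qK (a * b) A) y
      have h0 : x ≫ qK b A = 0 := by
        rw [← hg, ← Category.assoc, ← hx, Category.assoc, hy, comp_zero]
      obtain ⟨T₂, π₂, hπ₂, c, hc⟩ := exists_nsmul_of_qK x h0
      refine ⟨T₂, π₂ ≫ π₁, inferInstance, c ≫ qK a A ≫ cokernel.π k, ?_⟩
      change (π₂ ≫ π₁) ≫ y = (c ≫ qK a A ≫ cokernel.π k) ≫ f'
      simp only [Category.assoc, f', cokernel.π_desc, hf]
      rw [hx, reassoc_of% hc, Preadditive.nsmul_comp, Preadditive.comp_nsmul]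

end Torsion

/-- In the `p`-primary situation, torsion bounded by powers of `p` suffices. -/
theorem cof_of_primary (p : ℕ) (hp : p.Prime) (htor : ∀ X : C, ∃ n : ℕ, (p ^ n) • 𝟙 X = 0)
    {A : Ind C} (hA : ∀ k : ℕ, IsObj (K (p ^ k) A)) : Cof A := by
  intro n hn
  obtain ⟨k, u, hu, rfl⟩ := Nat.exists_eq_pow_mul_and_not_dvd hn.ne' p hp.ne_one
  have h0 : (p ^ k) • ιK (p ^ k * u) A = 0 := by
    refine eq_zero_of_forall _ fun X x => ?_
    rw [Preadditive.comp_nsmul]
    obtain ⟨m, hm⟩ := htor X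
    set z := x ≫ ιK (p ^ k * u) A
    have h1 : p ^ m • z = 0 := by
      have h' := congrArg (Ind.yoneda (C := C)).map hm
      rw [Functor.map_nsmul, CategoryTheory.Functor.map_id, Functor.map_zero] at h'
      rw [← Category.id_comp z, ← Preadditive.nsmul_comp, h', zero_comp]
    have h2 : u • (p ^ k • z) = 0 := by
      rw [smul_smul, mul_comm, ← Preadditive.comp_nsmul, nsmul_ιK, comp_zero]
    have h3 : p ^ m • (p ^ k • z) = 0 := by rw [smul_comm, h1, smul_zero]
    exact AddMonoid.addOrderOf_eq_one_iff.1 (Nat.Coprime.eq_one_of_dvd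
      (Nat.Coprime.coprime_dvd_left (addOrderOf_dvd_of_nsmul_eq_zero h3)
        (Nat.Coprime.pow_left m ((Nat.Prime.coprime_iff_not_dvd hp).2 hu)))
      (addOrderOf_dvd_of_nsmul_eq_zero h2))
  obtain ⟨f, hf⟩ := exists_liftK (ιK (p ^ k * u) A) h0
  obtain ⟨g, hg⟩ := exists_liftK (n := p ^ k * u) (ιK (p ^ k) A)
    (by rw [mul_comm, mul_smul, nsmul_ιK, smul_zero])
  refine isObj_of_iso ⟨g, f, ?_, ?_⟩ (hA k)
  · rw [← cancel_mono (ιK (p ^ k) A), Category.assoc, hf, hg, Category.id_comp]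
  · rw [← cancel_mono (ιK (p ^ k * u) A), Category.assoc, hg, hf, Category.id_comp]

end Groth.Agent.IndCofLib
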