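import Groth.Agent.IndCofLib.Abelian
import Mathlib.Algebra.Order.BigOperators.Ring.Finset

/-!
# Divisible sub-objects
-/

universe v u

open CategoryTheory CategoryTheory.Limits

namespace Groth.Agent.IndCofLib

section General

variable {V : Type u} [Category.{v} V] [Abelian V]

lemma Le.comp_right {A B T S : V} {f : T ⟶ A} {g : S ⟶ A} (h : Le f g) (x : A ⟶ B) :
    Le (f ≫ x) (g ≫ x) := by
  obtain ⟨T', π, hπ, c, hc⟩ := h.exists_lift
  simp only [Le]
  rw [← cancel_epi π, comp_zero, Category.assoc, reassoc_of% hc, ← Category.assoc g,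
    cokernel.condition, comp_zero]

lemma nsmul_cokernel (k : ℕ) (B : V) : k • cokernel.π (k • 𝟙 B) = 0 := by
  rw [← Category.id_comp (cokernel.π (k • 𝟙 B)), ← Preadditive.nsmul_comp]
  exact cokernel.condition _

lemma le_of_imageSubobject_le {A T S : V} {f : T ⟶ A} {g : S ⟶ A}
    (h : imageSubobject f ≤ imageSubobject g) : Le f g := by
  have hz : (imageSubobject g).arrow ≫ cokernel.π g = 0 := by
    rw [← cancel_epi (factorThruImageSubobject g), comp_zero, ← Category.assoc,
      imageSubobject_arrow_comp, cokernel.condition]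
  simp only [Le]
  rw [← imageSubobject_arrow_comp_assoc f, ← Subobject.ofLE_arrow h, Category.assoc, hz, comp_zero,
    comp_zero]

/-- Images of multiples of `M` are all equal. -/
def Stable (M : ℕ) (B : V) : Prop := ∀ k : ℕ, 0 < k → Le (M • 𝟙 B) ((M * k) • 𝟙 B)

lemma mul_le (a b : ℕ) (B : V) : Le ((a * b) • 𝟙 B) (a • 𝟙 B) := by
  rw [show (a * b) • 𝟙 B = (b • 𝟙 B) ≫ (a • 𝟙 B) by
    rw [Preadditive.comp_nsmul, Category.comp_id, smul_smul]]
  exact le_comp _ _

lemma Le.mul {a b : ℕ} {B : V} (h : Le (a • 𝟙 B) (b • 𝟙 B)) (c : ℕ) :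
    Le ((a * c) • 𝟙 B) ((b * c) • 𝟙 B) := by
  have := h.comp_right (c • 𝟙 B)
  simpa only [Preadditive.comp_nsmul, Category.comp_id, smul_smul, mul_comm c] using this

lemma Stable.divisible {M : ℕ} {B : V} (h : Stable M B) (k : ℕ) (hk : 0 < k) :
    Epi (k • 𝟙 ((imageSubobject (M • 𝟙 B) : Subobject B) : V)) := by
  obtain ⟨T, π, hπ, c, hc⟩ := (h k hk).exists_lift
  let e := factorThruImageSubobject (M • 𝟙 B)
  have hι : e ≫ (imageSubobject (M • 𝟙 B)).arrow = M • 𝟙 B := imageSubobject_arrow_comp _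
  have hc' : π ≫ e = (c ≫ e) ≫ (k • 𝟙 _) := by
    rw [← cancel_mono (imageSubobject (M • 𝟙 B)).arrow, Category.assoc, hι, hc]
    simp only [Preadditive.comp_nsmul, Preadditive.nsmul_comp, Category.comp_id, Category.assoc,
      hι, smul_smul, mul_comm M k]
  have : Epi ((c ≫ e) ≫ (k • 𝟙 ((imageSubobject (M • 𝟙 B) : Subobject B) : V))) := by
    rw [← hc']; infer_instance
  exact epi_of_epi (c ≫ e) _

lemma nsmul_cokernel_image (M : ℕ) (B : V) :
    M • 𝟙 (cokernel (imageSubobject (M • 𝟙 B)).arrow) = 0 := by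
  let π := cokernel.π (imageSubobject (M • 𝟙 B)).arrow
  have h : (M • 𝟙 B) ≫ π = 0 :=
    (congrArg (· ≫ π) (imageSubobject_arrow_comp (M • 𝟙 B))).symm.trans
      (by simp only [π, Category.assoc, cokernel.condition, comp_zero])
  rw [← cancel_epi π, comp_zero, Preadditive.comp_nsmul, Category.comp_id]
  rwa [Preadditive.nsmul_comp, Category.id_comp] at h

lemma divisible_le {B : V} (D : Subobject B) (hD : ∀ k : ℕ, 0 < k → Epi (k • 𝟙 (D : V))) (k : ℕ)
    (hk : 0 < k) : Le D.arrow (k • 𝟙 B) := by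
  haveI := hD k hk
  simp only [Le]
  rw [← cancel_epi (k • 𝟙 (D : V)), comp_zero, Preadditive.nsmul_comp, Category.id_comp,
    ← Preadditive.comp_nsmul, nsmul_cokernel, comp_zero]

lemma le_arrow_of_quot {B : V} (B' : Subobject B) {M : ℕ}
    (hq : M • 𝟙 (cokernel B'.arrow) = 0) : Le (M • 𝟙 B) B'.arrow := by
  simp only [Le]
  rw [Preadditive.nsmul_comp, Category.id_comp, ← Category.comp_id (cokernel.π B'.arrow),
    ← Preadditive.comp_nsmul, hq, comp_zero]

lemma stable_of_divisible {B : V} (B' : Subobject B)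
    (hB : ∀ k : ℕ, 0 < k → Epi (k • 𝟙 (B' : V))) {M : ℕ} (hM : 0 < M)
    (hq : M • 𝟙 (cokernel B'.arrow) = 0) : Stable M B :=
  fun k hk => (le_arrow_of_quot B' hq).trans (divisible_le B' hB _ (Nat.mul_pos hM hk))

lemma le_of_divisible {B : V} (D B' : Subobject B)
    (hD : ∀ k : ℕ, 0 < k → Epi (k • 𝟙 (D : V))) {M : ℕ} (hM : 0 < M)
    (hq : M • 𝟙 (cokernel B'.arrow) = 0) : D ≤ B' :=
  subobject_le_of_le ((divisible_le D hD M hM).trans (le_arrow_of_quot B' hq))

lemma stable_iff_exists (B : V) :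
    (∃ M : ℕ, 0 < M ∧ Stable M B) ↔
      ∃ B' : Subobject B, (∀ k : ℕ, 0 < k → Epi (k • 𝟙 (B' : V))) ∧
        ∃ M : ℕ, 0 < M ∧ M • 𝟙 (cokernel B'.arrow) = 0 :=
  ⟨fun ⟨M, hM, h⟩ => ⟨_, h.divisible, M, hM, nsmul_cokernel_image M B⟩,
    fun ⟨B', hB, M, hM, hq⟩ => ⟨M, hM, stable_of_divisible B' hB hM hq⟩⟩

lemma mittagLeffler_iff_stable (B : V) :
    (∀ n : ℕ, 0 < n → ∃ m : ℕ, 0 < m ∧ n ∣ m ∧ ∀ m' : ℕ, 0 < m' → m ∣ m' →
        imageSubobject ((m' / n) • 𝟙 B) = imageSubobject ((m / n) • 𝟙 B)) ↔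
      ∃ M : ℕ, 0 < M ∧ Stable M B := by
  constructor
  · intro h
    obtain ⟨m, hm, -, hm'⟩ := h 1 Nat.one_pos
    refine ⟨m, hm, fun k hk => le_of_imageSubobject_le ?_⟩
    have h1 := hm' (m * k) (Nat.mul_pos hm hk) (dvd_mul_right _ _)
    rw [Nat.div_one, Nat.div_one] at h1
    exact h1.ge
  · rintro ⟨M, hM, h⟩ n hn
    refine ⟨n * M, Nat.mul_pos hn hM, dvd_mul_right _ _, fun m' hm' hd => ?_⟩
    obtain ⟨k, rfl⟩ := hd
    rw [Nat.mul_assoc, Nat.mul_div_cancel_left _ hn, Nat.mul_div_cancel_left _ hn]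
    exact le_antisymm (imageSubobject_le_of_le (mul_le M k B))
      (imageSubobject_le_of_le (h k (Nat.pos_of_mul_pos_left hm')))

lemma stable_of_primes {M : ℕ} {B : V}
    (h : ∀ p : ℕ, p.Prime → Le (M • 𝟙 B) ((M * p) • 𝟙 B)) : Stable M B := by
  intro k
  induction k using Nat.recOnMul with
  | zero => omega
  | one => intro _; rw [Nat.mul_one]; exact le_refl' _
  | prime p hp => exact fun _ => h p hp
  | mul a b iha ihb =>
      intro hab
      have ha : 0 < a := Nat.pos_of_mul_pos_right hab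
      have hb : 0 < b := Nat.pos_of_mul_pos_left hab
      rw [← Nat.mul_assoc]
      exact (ihb hb).trans ((iha ha).mul b)

lemma epi_of_coprime {A Q : V} {ι : Q ⟶ A} {M p : ℕ} (hι : Le (M • 𝟙 A) ι)
    (hι' : Le ι (p • 𝟙 A)) (hMp : Nat.Coprime M p) : Epi (p • 𝟙 A) := by
  have h1 : M • cokernel.π (p • 𝟙 A) = 0 := by
    rw [← Category.id_comp (cokernel.π (p • 𝟙 A)), ← Preadditive.nsmul_comp]
    exact hι.trans hι'
  have h2 : p • cokernel.π (p • 𝟙 A) = 0 := nsmul_cokernel p A
  refine Abelian.epi_of_cokernel_π_eq_zero _ ?_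
  exact AddMonoid.addOrderOf_eq_one_iff.1 (Nat.Coprime.eq_one_of_dvd
    (Nat.Coprime.coprime_dvd_left (addOrderOf_dvd_of_nsmul_eq_zero h1) hMp)
      (addOrderOf_dvd_of_nsmul_eq_zero h2))

end General

variable {C : Type v} [SmallCategory C] [Abelian C]
  (hart : ∀ X : C, IsArtinianObject X) (htor : ∀ X : C, ∃ n : ℕ, 0 < n ∧ n • 𝟙 X = 0)
  {A : Ind C} (hA : Cof A)

include hart htor hA

/-- Almost all primes acting epimorphically gives stability. -/
theorem exists_stable_of_finite (hfin : {p : ℕ | p.Prime ∧ ¬ Epi (p • 𝟙 A)}.Finite) :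
    ∃ M : ℕ, 0 < M ∧ Stable M A := by
  have hex : ∀ p : ℕ, ∃ N, p.Prime → ∀ i j, N ≤ i → Le (p ^ i • 𝟙 A) (p ^ j • 𝟙 A) := fun p => by
    by_cases hp : p.Prime
    · obtain ⟨N, hN⟩ := exists_pow_stable hart htor hA p hp
      exact ⟨N, fun _ => hN⟩
    · exact ⟨0, fun h => absurd h hp⟩
  choose N hN using hex
  refine ⟨∏ p ∈ hfin.toFinset, p ^ N p,
    Finset.prod_pos fun p hp => pow_pos ((Set.Finite.mem_toFinset hfin).1 hp).1.pos _,
    stable_of_primes fun p hp => ?_⟩
  by_cases hpS : p ∈ hfin.toFinset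
  · rw [← Finset.mul_prod_erase _ _ hpS, mul_right_comm, ← pow_succ]
    exact (hN p hp _ _ le_rfl).mul _
  · have hepi : Epi (p • 𝟙 A) := by
      by_contra h
      exact hpS ((Set.Finite.mem_toFinset hfin).2 ⟨hp, h⟩)
    have h1 : Le (1 • 𝟙 A) (p • 𝟙 A) := by simp [Le, cokernel.π_of_epi]
    simpa only [one_mul, mul_comm] using h1.mul (∏ p ∈ hfin.toFinset, p ^ N p)

lemma isObj_cokernel_image (M : ℕ) (hM : 0 < M) :
    IsObj (cokernel (imageSubobject (M • 𝟙 A)).arrow) := by
  refine isObj_of_iso ?_ (isObj_quot hart htor hA M hM)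
  refine (cokernelEpiComp (factorThruImageSubobject (M • 𝟙 A))
    (imageSubobject (M • 𝟙 A)).arrow).symm.trans ?_ |>.symm
  exact cokernelIsoOfEq (imageSubobject_arrow_comp _)

/-- The largest divisible sub-object. -/
theorem exists_largest_divisible :
    ∃ D : Subobject A, (∀ k : ℕ, 0 < k → Epi (k • 𝟙 (D : Ind C))) ∧
      (∀ D' : Subobject A, (∀ k : ℕ, 0 < k → Epi (k • 𝟙 (D' : Ind C))) → D' ≤ D) ∧
      Cof (D : Ind C) ∧ Cof (cokernel D.arrow) := by
  have hex : ∀ p : Nat.Primes, ∃ N, ∀ n, N ≤ n → ∀ (m : ℕ) (T : Ind C) (a : T ⟶ A),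
      (p : ℕ) ^ (m + n) • a = 0 → ((p : ℕ) ^ n • a) ≫ qK ((p : ℕ) ^ (n + 1)) A = 0 :=
    fun p => exists_primary_div hart hA p p.2.pos
  choose N hN using hex
  let F : ULift.{v} (Nat.Primes × ℕ) → Ind C := fun i => K ((i.down.1 : ℕ) ^ i.down.2) A
  let g : ∀ i, F i ⟶ A := fun i =>
    (i.down.1 : ℕ) ^ N i.down.1 • ιK ((i.down.1 : ℕ) ^ i.down.2) A
  let s : ∐ F ⟶ A := Sigma.desc g
  let D := imageSubobject s
  let e := factorThruImageSubobject s
  -- generators land in `D`
  have hgen : ∀ (p : Nat.Primes) (m : ℕ) (T : Ind C) (a : T ⟶ A), (p : ℕ) ^ m • a = 0 →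
      ∃ y : T ⟶ (D : Ind C), y ≫ D.arrow = (p : ℕ) ^ N p • a := by
    intro p m T a ha
    obtain ⟨a', ha'⟩ := exists_liftK a ha
    refine ⟨a' ≫ Sigma.ι F ⟨(p, m)⟩ ≫ e, ?_⟩
    simp only [Category.assoc, D, e, imageSubobject_arrow_comp, s]
    rw [colimit.ι_desc]
    change a' ≫ ((p : ℕ) ^ N p • ιK ((p : ℕ) ^ m) A) = _
    rw [Preadditive.comp_nsmul, ha']
  have hdiv : ∀ k : ℕ, 0 < k → Epi (k • 𝟙 (D : Ind C)) := by
    intro k
    induction k using Nat.recOnMul with
    | zero => omega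
    | one => intro _; rw [one_smul]; infer_instance
    | mul a b iha ihb =>
        intro hab
        haveI := iha (Nat.pos_of_mul_pos_right hab)
        haveI := ihb (Nat.pos_of_mul_pos_left hab)
        rw [show (a * b) • 𝟙 (D : Ind C) = (b • 𝟙 _) ≫ (a • 𝟙 _) by
          rw [Preadditive.comp_nsmul, Category.comp_id, smul_smul]]
        exact epi_comp _ _
    | prime q hq =>
        intro _
        refine Abelian.epi_of_cokernel_π_eq_zero _ ?_
        rw [← cancel_epi e, comp_zero]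
        refine Sigma.hom_ext _ _ fun ⟨(p, m)⟩ => ?_
        rw [comp_zero]
        have hz : q • cokernel.π (q • 𝟙 (D : Ind C)) = 0 := nsmul_cokernel q _
        set x := Sigma.ι F ⟨(p, m)⟩ ≫ e
        have hx : x ≫ D.arrow = (p : ℕ) ^ N p • ιK ((p : ℕ) ^ m) A := by
          simp only [x, Category.assoc, D, e, imageSubobject_arrow_comp, s]
          exact colimit.ι_desc _ _
        rw [← Category.assoc]
        change x ≫ cokernel.π _ = 0
        by_cases hpq : q = p
        · subst hpq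
          obtain ⟨T, π, hπ, c, hc⟩ := exists_nsmul_of_qK _ (hN p (N p) le_rfl m _
            (ιK ((p : ℕ) ^ m) A) (by rw [pow_add, mul_comm, mul_smul, nsmul_ιK, smul_zero]))
          obtain ⟨y, hy⟩ := hgen p (m + (N p + 1)) T c
            (by rw [pow_add, mul_smul, ← hc, ← Preadditive.comp_nsmul, smul_comm, nsmul_ιK,
              smul_zero, comp_zero])
          have hπx : π ≫ x = (p : ℕ) • y := by
            rw [← cancel_mono D.arrow, Category.assoc, hx, hc, Preadditive.nsmul_comp, hy,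
              smul_smul, ← pow_succ']
          rw [← cancel_epi π, comp_zero, ← Category.assoc, hπx, Preadditive.nsmul_comp,
            ← Preadditive.comp_nsmul, hz, comp_zero]
        · have h1 : (p : ℕ) ^ m • (x ≫ cokernel.π (q • 𝟙 (D : Ind C))) = 0 := by
            rw [← Preadditive.nsmul_comp, show (p : ℕ) ^ m • x = 0 by
              rw [← cancel_mono D.arrow, Preadditive.nsmul_comp, hx, smul_comm, nsmul_ιK,
                smul_zero, zero_comp], zero_comp]
          have h2 : q • (x ≫ cokernel.π (q • 𝟙 (D : Ind C))) = 0 := by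
            rw [← Preadditive.comp_nsmul, hz, comp_zero]
          exact AddMonoid.addOrderOf_eq_one_iff.1 (Nat.Coprime.eq_one_of_dvd
            (Nat.Coprime.coprime_dvd_left (addOrderOf_dvd_of_nsmul_eq_zero h1)
              (Nat.Coprime.pow_left m ((Nat.coprime_primes p.2 hq).2 (Ne.symm hpq))))
            (addOrderOf_dvd_of_nsmul_eq_zero h2))
  refine ⟨D, hdiv, fun D' hD' => subobject_le_of_le (eq_zero_of_forall _ fun X x => ?_), ?_⟩
  · obtain ⟨M, hM, hMx⟩ := exists_nsmul_eq_zero htor X x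
    suffices H : ∀ n : ℕ, 0 < n → ∀ (T : Ind C) (y : T ⟶ (D' : Ind C)), n • y = 0 →
        y ≫ D'.arrow ≫ cokernel.π D.arrow = 0 from H M hM _ x hMx
    intro n
    induction n using Nat.recOnPosPrimePosCoprime with
    | zero => omega
    | one => intro _ T y hy; rw [one_smul] at hy; rw [hy, zero_comp]
    | prime_pow p m hp hm =>
        intro _ T y hy
        haveI := hD' (p ^ N ⟨p, hp⟩) (pow_pos hp.pos _)
        obtain ⟨T', π, hπ, c, hc⟩ :=
          surjective_up_to_refinements_of_epi ((p ^ N ⟨p, hp⟩) • 𝟙 (D' : Ind C)) y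
        rw [Preadditive.comp_nsmul, Category.comp_id] at hc
        obtain ⟨z, hz⟩ := hgen ⟨p, hp⟩ (m + N ⟨p, hp⟩) T' (c ≫ D'.arrow) (by
          rw [← Preadditive.nsmul_comp, pow_add, mul_smul, ← hc, ← Preadditive.comp_nsmul, hy,
            comp_zero, zero_comp])
        rw [← cancel_epi π, comp_zero, ← Category.assoc, hc, ← Category.assoc,
          Preadditive.nsmul_comp, ← hz, Category.assoc, cokernel.condition, comp_zero]
    | coprime a b ha hb hab iha ihb =>
        intro _ T y hy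
        have h1 : b • (y ≫ D'.arrow ≫ cokernel.π D.arrow) = 0 := by
          rw [← Preadditive.nsmul_comp]
          exact iha (by omega) T _ (by rw [smul_smul, hy])
        have h2 : a • (y ≫ D'.arrow ≫ cokernel.π D.arrow) = 0 := by
          rw [← Preadditive.nsmul_comp]
          exact ihb (by omega) T _ (by rw [smul_smul, mul_comm, hy])
        exact AddMonoid.addOrderOf_eq_one_iff.1 (Nat.Coprime.eq_one_of_dvd
          (Nat.Coprime.coprime_dvd_left (addOrderOf_dvd_of_nsmul_eq_zero h2) hab)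
          (addOrderOf_dvd_of_nsmul_eq_zero h1))
  have hp_obj : ∀ q : ℕ, q.Prime → IsObj (K q (D : Ind C)) := by
    intro q hq
    let p : Nat.Primes := ⟨q, hq⟩
    let t := tp q (N p) A
    let j : K q (D : Ind C) ⟶ K q A := kernel.lift _ (ιK q _ ≫ D.arrow)
      (by rw [comp_nsmul_id, ← Preadditive.nsmul_comp, nsmul_ιK, zero_comp])
    have hj : j ≫ ιK q A = ιK q _ ≫ D.arrow := kernel.lift_ι _ _ _
    obtain ⟨y, hy⟩ := hgen p (N p + 1) _ (ιK (q ^ (N p + 1)) A) (nsmul_ιK _ _)
    obtain ⟨f, hf⟩ := exists_liftK (n := q) y (by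
      rw [← cancel_mono D.arrow, Preadditive.nsmul_comp, hy, zero_comp, smul_smul]
      rw [show (p : ℕ) = q from rfl, ← pow_succ', nsmul_ιK])
    have hfj : f ≫ j = t := by
      rw [← cancel_mono (ιK q A), Category.assoc, hj, reassoc_of% hf, hy, tp_ιK]
    haveI : Mono j := by
      have : Mono (j ≫ ιK q A) := by rw [hj]; infer_instance
      exact mono_of_mono j (ιK q A)
    haveI : Epi f := by
      rw [epi_iff_surjective_up_to_refinements]
      intro T x
      haveI := hdiv (q ^ N p) (pow_pos hq.pos _)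
      obtain ⟨T', π, hπ, c, hc⟩ :=
        surjective_up_to_refinements_of_epi ((q ^ N p) • 𝟙 (D : Ind C)) (x ≫ ιK q _)
      rw [Preadditive.comp_nsmul, Category.comp_id] at hc
      obtain ⟨c', hc'⟩ := exists_liftK (n := q ^ (N p + 1)) (c ≫ D.arrow) (by
        rw [← Preadditive.nsmul_comp, pow_succ', mul_smul, ← hc, ← Preadditive.comp_nsmul,
          ← Preadditive.comp_nsmul, nsmul_ιK, comp_zero, comp_zero, zero_comp])
      refine ⟨T', π, hπ, c', ?_⟩
      rw [← cancel_mono j, Category.assoc, Category.assoc, hfj, ← cancel_mono (ιK q A)]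
      simp only [Category.assoc, hj, t, tp_ιK, Preadditive.comp_nsmul, hc']
      rw [reassoc_of% hc, Preadditive.nsmul_comp]
    refine isObj_of_exact_epi (kernel.ι t) f
      (by rw [← cancel_mono j, Category.assoc, hfj, kernel.condition, zero_comp]) ?_
      (isObj_kernel t (hA _ (pow_pos hq.pos _)) (hA q hq.pos)) (hA _ (pow_pos hq.pos _))
    rw [ShortComplex.exact_iff_exact_up_to_refinements]
    intro T (x : T ⟶ K (q ^ (N p + 1)) A) (hx : x ≫ f = 0)
    exact ⟨T, 𝟙 T, inferInstance, kernel.lift t x (by rw [← hfj, reassoc_of% hx, zero_comp]),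
      by simp⟩
  have hDcof : Cof (D : Ind C) := by
    intro n
    induction n using Nat.recOnMul with
    | zero => omega
    | one =>
        intro _
        refine isObj_of_isZero ((IsZero.iff_id_eq_zero _).2 ?_)
        rw [← cancel_mono (ιK 1 (D : Ind C)), Category.id_comp, zero_comp]
        simpa using nsmul_ιK 1 (D : Ind C)
    | prime q hq => exact fun _ => hp_obj q hq
    | mul a b iha ihb =>
        intro hab
        have ha : 0 < a := Nat.pos_of_mul_pos_right hab
        let i : K a (D : Ind C) ⟶ K (a * b) (D : Ind C) := kernel.lift _ (ιK a _)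
          (by rw [comp_nsmul_id, mul_comm, mul_smul, nsmul_ιK, smul_zero])
        let r : K (a * b) (D : Ind C) ⟶ K b (D : Ind C) := kernel.lift _ (a • ιK (a * b) _)
          (by rw [comp_nsmul_id, smul_smul, mul_comm, nsmul_ιK])
        have hi : i ≫ ιK (a * b) _ = ιK a _ := kernel.lift_ι _ _ _
        have hr : r ≫ ιK b _ = a • ιK (a * b) _ := kernel.lift_ι _ _ _
        have w : i ≫ r = 0 := by
          rw [← cancel_mono (ιK b _), Category.assoc, hr, Preadditive.comp_nsmul, hi, nsmul_ιK,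
            zero_comp]
        haveI : Mono i := by
          have : Mono (i ≫ ιK (a * b) (D : Ind C)) := by rw [hi]; infer_instance
          exact mono_of_mono i (ιK (a * b) _)
        haveI : Epi r := by
          rw [epi_iff_surjective_up_to_refinements]
          intro T x
          haveI := hdiv a ha
          obtain ⟨T', π, hπ, c, hc⟩ :=
            surjective_up_to_refinements_of_epi (a • 𝟙 (D : Ind C)) (x ≫ ιK b _)
          rw [Preadditive.comp_nsmul, Category.comp_id] at hc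
          obtain ⟨c', hc'⟩ := exists_liftK (n := a * b) c (by
            rw [mul_comm, mul_smul, ← hc, ← Preadditive.comp_nsmul, ← Preadditive.comp_nsmul,
              nsmul_ιK, comp_zero, comp_zero])
          refine ⟨T', π, hπ, c', ?_⟩
          rw [← cancel_mono (ιK b _), Category.assoc, Category.assoc, hr, Preadditive.comp_nsmul,
            hc', hc]
        refine isObj_of_shortExact (S := ShortComplex.mk i r w) ⟨?_⟩ (iha ha)
          (ihb (Nat.pos_of_mul_pos_left hab))
        rw [ShortComplex.exact_iff_exact_up_to_refinements]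
        intro T (x : T ⟶ K (a * b) (D : Ind C)) (hx : x ≫ r = 0)
        obtain ⟨x', hx'⟩ := exists_liftK (n := a) (x ≫ ιK (a * b) _) (by
          rw [← Preadditive.comp_nsmul, ← hr, reassoc_of% hx, zero_comp])
        refine ⟨T, 𝟙 T, inferInstance, x', ?_⟩
        rw [Category.id_comp, ← cancel_mono (ιK (a * b) (D : Ind C)), Category.assoc, hi, hx']
  refine ⟨hDcof, fun n hn => ?_⟩
  let π := cokernel.π D.arrow
  let i : K n (D : Ind C) ⟶ K n A := kernel.lift _ (ιK n _ ≫ D.arrow)
    (by rw [comp_nsmul_id, ← Preadditive.nsmul_comp, nsmul_ιK, zero_comp])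
  let g' : K n A ⟶ K n (cokernel D.arrow) := kernel.lift _ (ιK n A ≫ π)
    (by rw [comp_nsmul_id, ← Preadditive.nsmul_comp, nsmul_ιK, zero_comp])
  have hi : i ≫ ιK n A = ιK n _ ≫ D.arrow := kernel.lift_ι _ _ _
  have hg : g' ≫ ιK n _ = ιK n A ≫ π := kernel.lift_ι _ _ _
  have w : i ≫ g' = 0 := by
    rw [← cancel_mono (ιK n _), Category.assoc, hg, reassoc_of% hi, cokernel.condition,
      comp_zero, zero_comp]
  haveI : Epi g' := by
    rw [epi_iff_surjective_up_to_refinements]
    intro T x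
    obtain ⟨T₁, π₁, hπ₁, a, ha⟩ := surjective_up_to_refinements_of_epi π (x ≫ ιK n _)
    obtain ⟨T₂, π₂, hπ₂, d, hd⟩ := Le.exists_lift (f := n • a) (g := D.arrow) (by
      simp only [Le]
      rw [Preadditive.nsmul_comp, ← ha, ← Preadditive.comp_nsmul, ← Preadditive.comp_nsmul,
        nsmul_ιK, comp_zero, comp_zero])
    haveI := hdiv n hn
    obtain ⟨T₃, π₃, hπ₃, c, hc⟩ := surjective_up_to_refinements_of_epi (n • 𝟙 (D : Ind C)) d
    rw [Preadditive.comp_nsmul, Category.comp_id] at hc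
    obtain ⟨a', ha'⟩ := exists_liftK (n := n) (π₃ ≫ π₂ ≫ a - c ≫ D.arrow) (by
      rw [smul_sub, ← Preadditive.comp_nsmul, ← Preadditive.comp_nsmul, hd,
        ← Preadditive.nsmul_comp, reassoc_of% hc, sub_self])
    refine ⟨T₃, π₃ ≫ π₂ ≫ π₁, inferInstance, a', ?_⟩
    rw [← cancel_mono (ιK n _)]
    simp only [Category.assoc, hg]
    rw [reassoc_of% ha', Preadditive.sub_comp]
    simp only [Category.assoc, π, cokernel.condition, comp_zero, sub_zero]
    rw [ha]
  refine isObj_of_exact_epi i g' w ?_ (hDcof n hn) (hA n hn)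
  rw [ShortComplex.exact_iff_exact_up_to_refinements]
  intro T (x : T ⟶ K n A) (hx : x ≫ g' = 0)
  obtain ⟨T', π', hπ', d, hd⟩ := Le.exists_lift (f := x ≫ ιK n A) (g := D.arrow) (by
    simp only [Le]
    rw [Category.assoc, ← hg, reassoc_of% hx, zero_comp])
  obtain ⟨d', hd'⟩ := exists_liftK (n := n) d (by
    rw [← cancel_mono D.arrow, Preadditive.nsmul_comp, ← hd, ← Preadditive.comp_nsmul,
      ← Preadditive.comp_nsmul, nsmul_ιK, comp_zero, comp_zero, zero_comp])
  refine ⟨T', π', hπ', d', ?_⟩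
  change π' ≫ x = d' ≫ i
  rw [← cancel_mono (ιK n A), Category.assoc, Category.assoc, hi, reassoc_of% hd', hd]

end Groth.Agent.IndCofLib
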